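/-
helper47: project S4705 (helper17), modules S4705-[ALTSUM] and S4705-[ALTSUM2].
-/
import Mathlib
import Cfsg.Prelude.Def_Characters
import Cfsg.Prelude.Def_Blocks
import Cfsg.Agent.Lib.Helper17.PM2.Defs
import Cfsg.Agent.Lib.Helper76.Galois

set_option autoImplicit false

open Cfsg Cfsg.Agent.Lib.Helper17.PM2
open scoped ComplexConjugate

universe u

namespace Cfsg.Agent.Lib.Helper47.S4705

/-- geometric sum of an `N`-th root of unity has nonnegative real part -/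
theorem geom_re_nonneg (w : ℂ) (N : ℕ) (hw : w ^ N = 1) :
    0 ≤ (∑ j ∈ Finset.range N, w ^ j).re := by
  by_cases h1 : w = 1
  · subst h1
    simp
  · rw [geom_sum_eq h1, hw, sub_self, zero_div]
    simp

theorem alt_sum_nonneg {G : Type u} [Group G] [Finite G] {χ : G → ℂ} (hχ : IsCharacter G χ)
    (g : G) (N : ℕ) (hN : Even N) (hgN : g ^ N = 1) :
    0 ≤ ∑ j ∈ Finset.range N, (-1 : ℝ) ^ j * ‖χ (g ^ j)‖ ^ 2 := by
  classical
  rcases Nat.eq_zero_or_pos N with rfl | hNpos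
  · simp
  obtain ⟨n, ρ, rfl⟩ := hχ
  obtain ⟨μ, hμ, hk⟩ := Cfsg.Agent.Lib.Helper76.exists_character_pow_eq_sum ρ g N hNpos hgN
  have hcast : ((∑ j ∈ Finset.range N, (-1 : ℝ) ^ j * ‖ρ.character (g ^ j)‖ ^ 2 : ℝ) : ℂ) =
      ∑ i, ∑ i', ∑ j ∈ Finset.range N, (-(μ i * conj (μ i'))) ^ j := by
    have hswap : ∑ i, ∑ i', ∑ j ∈ Finset.range N, (-(μ i * conj (μ i'))) ^ j =
        ∑ j ∈ Finset.range N, ∑ i, ∑ i', (-(μ i * conj (μ i'))) ^ j := by
      calc ∑ i, ∑ i', ∑ j ∈ Finset.range N, (-(μ i * conj (μ i'))) ^ j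
          = ∑ i, ∑ j ∈ Finset.range N, ∑ i', (-(μ i * conj (μ i'))) ^ j :=
            Finset.sum_congr rfl (fun i _ => Finset.sum_comm)
        _ = ∑ j ∈ Finset.range N, ∑ i, ∑ i', (-(μ i * conj (μ i'))) ^ j := Finset.sum_comm
    rw [hswap]
    push_cast
    refine Finset.sum_congr rfl (fun j _ => ?_)
    have h1 : ((‖ρ.character (g ^ j)‖ : ℝ) : ℂ) ^ 2 = ρ.character (g ^ j) * conj (ρ.character (g ^ j)) := by
      rw [Complex.mul_conj, Complex.normSq_eq_norm_sq]
      push_cast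
      rfl
    rw [h1, hk j, map_sum, Finset.sum_mul_sum, Finset.mul_sum]
    refine Finset.sum_congr rfl (fun i _ => ?_)
    rw [Finset.mul_sum]
    refine Finset.sum_congr rfl (fun i' _ => ?_)
    have h2 : (-(μ i * conj (μ i'))) ^ j = (-1) ^ j * (μ i ^ j * conj (μ i' ^ j)) := by
      rw [neg_pow, mul_pow, map_pow]
    rw [h2]
  have hre : (∑ j ∈ Finset.range N, (-1 : ℝ) ^ j * ‖ρ.character (g ^ j)‖ ^ 2) =
      (∑ i, ∑ i', ∑ j ∈ Finset.range N, (-(μ i * conj (μ i'))) ^ j).re := by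
    rw [← hcast, Complex.ofReal_re]
  rw [hre, Complex.re_sum]
  refine Finset.sum_nonneg (fun i _ => ?_)
  rw [Complex.re_sum]
  refine Finset.sum_nonneg (fun i' _ => ?_)
  apply geom_re_nonneg
  rw [neg_pow, mul_pow, ← map_pow, hμ i, hμ i', map_one, mul_one, mul_one]
  exact hN.neg_one_pow

/-- splitting an alternating sum into even and odd parts -/
theorem alt_split (F : ℕ → ℝ) (n : ℕ) :
    ∑ j ∈ Finset.range (2 * n), (-1 : ℝ) ^ j * F j =
      ∑ i ∈ Finset.range n, F (2 * i) - ∑ i ∈ Finset.range n, F (2 * i + 1) := by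
  induction n with
  | zero => simp
  | succ n ih =>
    rw [show 2 * (n + 1) = 2 * n + 1 + 1 by ring, Finset.sum_range_succ, Finset.sum_range_succ, ih,
      Finset.sum_range_succ, Finset.sum_range_succ]
    have h1 : (-1 : ℝ) ^ (2 * n) = 1 := by simp
    have h2 : (-1 : ℝ) ^ (2 * n + 1) = -1 := by rw [pow_succ, h1]; ring
    rw [h1, h2]; ring

/-- an affine substitution `i ↦ c i + d` with `c` prime to the period permutes a period -/
theorem sum_affine_mod (h : ℕ → ℝ) (n c d : ℕ) (hn : 0 < n) (hc : Nat.Coprime c n)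
    (hper : ∀ a, h (a + n) = h a) :
    ∑ i ∈ Finset.range n, h (c * i + d) = ∑ a ∈ Finset.range n, h a := by
  classical
  have hmod : ∀ a, h (a % n) = h a := Function.Periodic.map_mod_nat hper
  have hinj : Set.InjOn (fun i => (c * i + d) % n) (Finset.range n : Set ℕ) := by
    intro i hi i' hi' hii
    have hi1 : i < n := by simpa using hi
    have hi2 : i' < n := by simpa using hi'
    have h1 : c * i + d ≡ c * i' + d [MOD n] := hii
    have h2 : c * i ≡ c * i' [MOD n] := Nat.ModEq.add_right_cancel' d h1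
    have h3 : i ≡ i' [MOD n] :=
      Nat.ModEq.cancel_left_of_coprime (by rw [Nat.gcd_comm]; exact hc) h2
    exact h3.eq_of_lt_of_lt hi1 hi2
  have himg : (Finset.range n).image (fun i => (c * i + d) % n) = Finset.range n := by
    apply Finset.eq_of_subset_of_card_le
    · intro a ha
      rw [Finset.mem_image] at ha
      obtain ⟨i, _, rfl⟩ := ha
      exact Finset.mem_range.2 (Nat.mod_lt _ hn)
    · rw [Finset.card_image_of_injOn hinj]
  calc ∑ i ∈ Finset.range n, h (c * i + d)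
      = ∑ i ∈ Finset.range n, h ((c * i + d) % n) := by
        refine Finset.sum_congr rfl (fun i _ => (hmod _).symm)
    _ = ∑ a ∈ (Finset.range n).image (fun i => (c * i + d) % n), h a :=
        (Finset.sum_image hinj).symm
    _ = ∑ a ∈ Finset.range n, h a := by rw [himg]

theorem alt_sum_le {G : Type u} [Group G] [Finite G] {χ : G → ℂ} (hχ : IsCharacter G χ)
    (u x : G) (hu : u ^ 2 = 1) (hux : Commute u x) (n : ℕ) (hn : Odd n) (hxn : x ^ n = 1) :
    ∑ a ∈ Finset.range n, ‖χ (u * x ^ a)‖ ^ 2 ≤ ∑ a ∈ Finset.range n, ‖χ (x ^ a)‖ ^ 2 := by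
  have hnpos : 0 < n := hn.pos
  have hc : Nat.Coprime 2 n := (Nat.coprime_two_left).2 hn
  have hg : (u * x) ^ (2 * n) = 1 := by
    rw [hux.mul_pow, pow_mul, hu, one_pow, one_mul, mul_comm, pow_mul, hxn, one_pow]
  have h0 := alt_sum_nonneg hχ (u * x) (2 * n) (even_two_mul n) hg
  rw [alt_split (fun j => ‖χ ((u * x) ^ j)‖ ^ 2) n] at h0
  have hue : ∀ i : ℕ, u ^ (2 * i) = 1 := fun i => by rw [pow_mul, hu, one_pow]
  have he : ∀ i : ℕ, (u * x) ^ (2 * i) = x ^ (2 * i) := fun i => by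
    rw [hux.mul_pow, hue, one_mul]
  have ho : ∀ i : ℕ, (u * x) ^ (2 * i + 1) = u * x ^ (2 * i + 1) := fun i => by
    rw [hux.mul_pow, pow_succ, hue, one_mul]
  have hper1 : ∀ a : ℕ, ‖χ (x ^ (a + n))‖ ^ 2 = ‖χ (x ^ a)‖ ^ 2 := fun a => by
    rw [pow_add, hxn, mul_one]
  have hper2 : ∀ a : ℕ, ‖χ (u * x ^ (a + n))‖ ^ 2 = ‖χ (u * x ^ a)‖ ^ 2 := fun a => by
    rw [pow_add, hxn, mul_one]
  have e1 := sum_affine_mod (fun a => ‖χ (x ^ a)‖ ^ 2) n 2 0 hnpos hc hper1
  have e2 := sum_affine_mod (fun a => ‖χ (u * x ^ a)‖ ^ 2) n 2 1 hnpos hc hper2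
  simp only [add_zero] at e1
  simp only [he, ho] at h0
  rw [e1, e2] at h0
  linarith

end Cfsg.Agent.Lib.Helper47.S4705
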