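/-
helper47: project S4705 (helper17), module S4705-[PSISUM].
-/
import Mathlib
import Cfsg.Prelude.Def_Characters
import Cfsg.Prelude.Def_Blocks
import Cfsg.Agent.Lib.Helper17.PM2.Defs

set_option autoImplicit false

open Cfsg Cfsg.Agent.Lib.Helper17.PM2
open scoped ComplexConjugate

universe u

namespace Cfsg.Agent.Lib.Helper47.S4705

/-- the `p`-th roots of unity in `ℂ` sum to zero -/
theorem sum_nthRoots_prime (p : ℕ) (hp : p.Prime) :
    ∑ x ∈ Polynomial.nthRootsFinset p (1 : ℂ), x = 0 := by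
  classical
  have hz := Complex.isPrimitiveRoot_exp p hp.ne_zero
  set z := Complex.exp (2 * Real.pi * Complex.I / p) with hzdef
  have hinj : Set.InjOn (fun i : ℕ => z ^ i) (Finset.range p : Set ℕ) := by
    intro i hi j hj hij
    exact hz.pow_inj (by simpa using hi) (by simpa using hj) hij
  have himg : (Finset.range p).image (fun i : ℕ => z ^ i) =
      Polynomial.nthRootsFinset p (1 : ℂ) := by
    apply Finset.eq_of_subset_of_card_le
    · intro x hx
      rw [Finset.mem_image] at hx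
      obtain ⟨i, _, rfl⟩ := hx
      rw [Polynomial.mem_nthRootsFinset hp.pos, ← pow_mul, mul_comm, pow_mul, hz.pow_eq_one,
        one_pow]
    · rw [hz.card_nthRootsFinset, Finset.card_image_of_injOn hinj, Finset.card_range]
  rw [← himg, Finset.sum_image hinj]
  exact hz.geom_sum_eq_zero hp.one_lt

variable {G : Type u} [Group G] [Fintype G] {p : ℕ} (S : Setting G p)

theorem sum_psi (w : ↥(S.P : Subgroup G)) (hw : w ≠ 1) :
    ∑ η ∈ S.D.Y, (((S.D.ψ η w : ℂˣ) : ℂ) + (((S.D.ψ η w)⁻¹ : ℂˣ) : ℂ)) = -1 := by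
  classical
  have hp := S.hp
  have h5 := S.h5
  have : Fact p.Prime := ⟨hp⟩
  have hgen : ∀ f f' : ↥(S.P : Subgroup G) →* ℂˣ, f w = f' w → f = f' := by
    intro f f' h
    have htop : Subgroup.zpowers w = ⊤ := zpowers_eq_top_of_prime_card S.hP hw
    refine MonoidHom.ext (fun y => ?_)
    have hy : y ∈ Subgroup.zpowers w := htop ▸ Subgroup.mem_top y
    obtain ⟨n, rfl⟩ := Subgroup.mem_zpowers_iff.1 hy
    rw [map_zpow, map_zpow, h]
  have hwp : w ^ p = 1 := by
    have := pow_card_eq_one' (G := ↥(S.P : Subgroup G)) (x := w)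
    rwa [S.hP] at this
  have hup : ∀ η : G → ℂ, (S.D.ψ η w) ^ p = 1 := fun η => by rw [← map_pow, hwp, map_one]
  have hne1 : ∀ η ∈ S.D.Y, S.D.ψ η w ≠ 1 := by
    intro η hη h
    exact S.D.hψ1 η hη (hgen _ _ (by rw [h, MonoidHom.one_apply]))
  have hne_inv : ∀ η ∈ S.D.Y, S.D.ψ η w ≠ (S.D.ψ η w)⁻¹ := by
    intro η hη h
    have h2 : (S.D.ψ η w) ^ 2 = 1 := by
      rw [sq]
      nth_rewrite 2 [h]
      exact mul_inv_cancel _
    have h3 := pow_gcd_eq_one.2 ⟨h2, hup η⟩
    have hg : Nat.gcd 2 p = 1 := by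
      have : Odd p := hp.odd_of_ne_two (by omega)
      exact Nat.coprime_two_left.2 this
    rw [hg, pow_one] at h3
    exact hne1 η hη h3
  set a : (G → ℂ) → ℂ := fun η => ((S.D.ψ η w : ℂˣ) : ℂ) with ha
  set b : (G → ℂ) → ℂ := fun η => (((S.D.ψ η w)⁻¹ : ℂˣ) : ℂ) with hb
  have hinjA : Set.InjOn a (S.D.Y : Set (G → ℂ)) := by
    intro η hη η' hη' h
    have h' : S.D.ψ η w = S.D.ψ η' w := Units.ext h
    exact S.D.hψinj η hη η' hη' (Or.inl (hgen _ _ h'))
  have hinjB : Set.InjOn b (S.D.Y : Set (G → ℂ)) := by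
    intro η hη η' hη' h
    have h' : (S.D.ψ η w)⁻¹ = (S.D.ψ η' w)⁻¹ := Units.ext h
    exact S.D.hψinj η hη η' hη' (Or.inl (hgen _ _ (inv_injective h')))
  have hdisj : Disjoint (S.D.Y.image a) (S.D.Y.image b) := by
    rw [Finset.disjoint_left]
    intro x hxa hxb
    obtain ⟨η, hη, rfl⟩ := Finset.mem_image.1 hxa
    obtain ⟨η', hη', h⟩ := Finset.mem_image.1 hxb
    have h' : S.D.ψ η w = (S.D.ψ η' w)⁻¹ := (Units.ext h).symm
    have hηη : η = η' :=
      S.D.hψinj η hη η' hη' (Or.inr (hgen _ _ (by rw [h', MonoidHom.inv_apply])))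
    subst hηη
    exact hne_inv η hη h'
  have hsub : S.D.Y.image a ∪ S.D.Y.image b ⊆
      (Polynomial.nthRootsFinset p (1 : ℂ)).erase 1 := by
    intro x hx
    rw [Finset.mem_union] at hx
    rw [Finset.mem_erase, Polynomial.mem_nthRootsFinset hp.pos]
    rcases hx with hx | hx
    · obtain ⟨η, hη, rfl⟩ := Finset.mem_image.1 hx
      refine ⟨fun h => hne1 η hη (Units.ext h), ?_⟩
      show ((S.D.ψ η w : ℂˣ) : ℂ) ^ p = 1
      rw [← Units.val_pow_eq_pow_val, hup η, Units.val_one]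
    · obtain ⟨η, hη, rfl⟩ := Finset.mem_image.1 hx
      refine ⟨fun h => hne1 η hη (inv_eq_one.1 (Units.ext h)), ?_⟩
      show (((S.D.ψ η w)⁻¹ : ℂˣ) : ℂ) ^ p = 1
      rw [← Units.val_pow_eq_pow_val, inv_pow, hup η, inv_one, Units.val_one]
  have hcard : ((Polynomial.nthRootsFinset p (1 : ℂ)).erase 1).card ≤
      (S.D.Y.image a ∪ S.D.Y.image b).card := by
    rw [Finset.card_union_of_disjoint hdisj, Finset.card_image_of_injOn hinjA,
      Finset.card_image_of_injOn hinjB,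
      Finset.card_erase_of_mem (Polynomial.one_mem_nthRootsFinset hp.pos),
      (Complex.isPrimitiveRoot_exp p hp.ne_zero).card_nthRootsFinset]
    have := S.D.hYcard
    omega
  have heq := Finset.eq_of_subset_of_card_le hsub hcard
  have hsum0 := sum_nthRoots_prime p hp
  rw [← Finset.add_sum_erase _ _ (Polynomial.one_mem_nthRootsFinset hp.pos)] at hsum0
  calc ∑ η ∈ S.D.Y, (a η + b η) = ∑ η ∈ S.D.Y, a η + ∑ η ∈ S.D.Y, b η := Finset.sum_add_distrib
    _ = ∑ x ∈ S.D.Y.image a, x + ∑ x ∈ S.D.Y.image b, x := by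
        rw [Finset.sum_image hinjA, Finset.sum_image hinjB]
    _ = ∑ x ∈ S.D.Y.image a ∪ S.D.Y.image b, x := (Finset.sum_union hdisj).symm
    _ = ∑ x ∈ (Polynomial.nthRootsFinset p (1 : ℂ)).erase 1, x := by rw [heq]
    _ = -1 := by linear_combination hsum0

end Cfsg.Agent.Lib.Helper47.S4705
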