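/-
helper47: project S4705 (helper17), modules S4705-[VAL2] and S4705-[NO4].
-/
import Mathlib
import Cfsg.Prelude.Def_Characters
import Cfsg.Prelude.Def_Blocks
import Cfsg.Agent.Lib.Helper17.PM2.Defs
import Cfsg.Agent.Lib.Helper76.Galois

set_option autoImplicit false

open Cfsg Cfsg.Agent.Lib.Helper17.PM2
open scoped ComplexConjugate

universe u

namespace Cfsg.Agent.Lib.Helper47.S4705

variable {G : Type u} [Group G] [Fintype G] {p : ℕ} (S : Setting G p)

/-- `2`-elements are fixed by `g ↦ g ^ k` -/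
theorem pow_k_two_elt (g : G) (j : ℕ) (hg : orderOf g = 2 ^ j) : g ^ S.k = g := by
  have h := S.hk2 g 1 (Commute.one_right g) ⟨j, hg⟩ (by simp)
  simpa using h

theorem val_invol
    (hR : ∀ g : G, ¬ p ∣ orderOf g → S.ζ g ^ 2 - S.ζ (g ^ 2) = ((p : ℂ) - 3) * S.ζ (g ^ S.k))
    (t : G) (ht : orderOf t = 2) : S.ζ t = -1 := by
  have hp := S.hp
  have h5 := S.h5
  have hreg : ¬ p ∣ orderOf t := by
    rw [ht]
    intro h
    have := Nat.le_of_dvd (by norm_num) h
    omega
  have htk : t ^ S.k = t := pow_k_two_elt S t 1 (by simpa using ht)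
  have ht2 : t ^ 2 = 1 := by rw [← ht]; exact pow_orderOf_eq_one t
  have h := hR t hreg
  rw [htk, ht2, S.hdeg] at h
  have hfac : (S.ζ t - ((p : ℂ) - 2)) * (S.ζ t + 1) = 0 := by linear_combination h
  rcases mul_eq_zero.1 hfac with h1 | h1
  · exfalso
    have h2 : S.ζ t = S.ζ 1 := by rw [S.hdeg]; linear_combination h1
    have h3 := S.hfaith t h2
    rw [h3, orderOf_one] at ht
    omega
  · linear_combination h1

/-- a complex fourth root of unity is a Gaussian integer -/
theorem gaussian_of_pow_four (μ : ℂ) (hμ : μ ^ 4 = 1) : ∃ a b : ℤ, μ = (a : ℂ) + (b : ℂ) * Complex.I := by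
  have h : (μ - 1) * (μ + 1) * ((μ - Complex.I) * (μ + Complex.I)) = 0 := by
    linear_combination hμ - (μ ^ 2 - 1) * Complex.I_sq
  rcases mul_eq_zero.1 h with h1 | h1
  · rcases mul_eq_zero.1 h1 with h2 | h2
    · exact ⟨1, 0, by push_cast; linear_combination h2⟩
    · exact ⟨-1, 0, by push_cast; linear_combination h2⟩
  · rcases mul_eq_zero.1 h1 with h2 | h2
    · exact ⟨0, 1, by push_cast; linear_combination h2⟩
    · exact ⟨0, -1, by push_cast; linear_combination h2⟩

/-- a finite sum of Gaussian integers is a Gaussian integer -/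
theorem gaussian_sum {ι : Type*} (s : Finset ι) (f : ι → ℂ)
    (hf : ∀ i ∈ s, ∃ a b : ℤ, f i = (a : ℂ) + (b : ℂ) * Complex.I) :
    ∃ a b : ℤ, ∑ i ∈ s, f i = (a : ℂ) + (b : ℂ) * Complex.I := by
  classical
  induction s using Finset.induction_on with
  | empty => exact ⟨0, 0, by simp⟩
  | insert i s hi ih =>
    obtain ⟨a, b, hab⟩ := ih (fun j hj => hf j (Finset.mem_insert_of_mem hj))
    obtain ⟨a', b', hab'⟩ := hf i (Finset.mem_insert_self i s)
    refine ⟨a' + a, b' + b, ?_⟩
    rw [Finset.sum_insert hi, hab, hab']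
    push_cast
    ring

theorem no_order_four
    (hR : ∀ g : G, ¬ p ∣ orderOf g → S.ζ g ^ 2 - S.ζ (g ^ 2) = ((p : ℂ) - 3) * S.ζ (g ^ S.k))
    (hinv : ∀ t : G, orderOf t = 2 → S.ζ t = -1)
    (g : G) : orderOf g ≠ 4 := by
  intro h4
  have hp := S.hp
  have h5 := S.h5
  have hreg : ¬ p ∣ orderOf g := by
    rw [h4]
    intro h
    have := Nat.le_of_dvd (by norm_num) h
    omega
  have hgk : g ^ S.k = g := pow_k_two_elt S g 2 (by rw [h4]; norm_num)
  have hg4 : g ^ 4 = 1 := by rw [← h4]; exact pow_orderOf_eq_one g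
  have hg2 : orderOf (g ^ 2) = 2 := by
    refine orderOf_eq_prime ?_ ?_
    · rw [← pow_mul]; exact hg4
    · intro h
      have := orderOf_dvd_of_pow_eq_one h
      rw [h4] at this
      omega
  have h := hR g hreg
  rw [hgk, hinv _ hg2] at h
  -- `ζ g` is a Gaussian integer
  obtain ⟨n, ρ, hρ, hχ⟩ := S.hζ
  obtain ⟨μ, hμ, hk⟩ :=
    Cfsg.Agent.Lib.Helper76.exists_character_pow_eq_sum ρ g 4 (by norm_num) hg4
  have h1 := hk 1
  simp only [pow_one] at h1
  rw [hχ] at h1
  obtain ⟨a, b, hab⟩ := gaussian_sum Finset.univ μ (fun i _ => gaussian_of_pow_four (μ i) (hμ i))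
  rw [← h1] at hab
  rw [hab] at h
  -- real and imaginary parts
  have hre := congrArg Complex.re h
  have him := congrArg Complex.im h
  simp [pow_two] at hre him
  have hre' : (a : ℝ) * a - b * b + 1 = ((p : ℝ) - 3) * a := by linarith
  have him' : (a : ℝ) * b + b * a = ((p : ℝ) - 3) * b := by linarith
  have hreZ : a * a - b * b + 1 = ((p : ℤ) - 3) * a := by exact_mod_cast hre'
  have himZ : a * b + b * a = ((p : ℤ) - 3) * b := by exact_mod_cast him'
  have hpZ : (7 : ℤ) ≤ (p : ℤ) := by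
    have : 6 ≤ p := h5
    rcases Nat.lt_or_ge p 7 with h | h
    · have : p = 6 := by omega
      subst this
      exact absurd hp (by decide)
    · exact_mod_cast h
  have hb : b * (2 * a - ((p : ℤ) - 3)) = 0 := by linear_combination himZ
  rcases mul_eq_zero.1 hb with hb0 | hb0
  · subst hb0
    have h2 : a * (((p : ℤ) - 3) - a) = 1 := by linear_combination (-1 : ℤ) * hreZ
    have hapos : 0 < a := by
      by_contra hneg
      push Not at hneg
      nlinarith
    have hdvd : a ∣ 1 := ⟨_, h2.symm⟩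
    have hle : a ≤ 1 := Int.le_of_dvd one_pos hdvd
    have ha1 : a = 1 := by omega
    subst ha1
    omega
  · have ha : 2 * a = (p : ℤ) - 3 := by linarith
    have ha2 : 2 ≤ a := by omega
    nlinarith [sq_nonneg b]

end Cfsg.Agent.Lib.Helper47.S4705
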