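/-
helper47: project S4705 (helper17), module S4705-[VALODD].
-/
import Mathlib
import Cfsg.Prelude.Def_Characters
import Cfsg.Prelude.Def_Blocks
import Cfsg.Agent.Lib.Helper17.PM2.Defs
import Cfsg.Agent.Lib.Helper80.GalProd

set_option autoImplicit false

open Cfsg Cfsg.Agent.Lib.Helper17.PM2
open scoped ComplexConjugate

universe u

namespace Cfsg.Agent.Lib.Helper47.S4705

variable {G : Type u} [Group G] [Fintype G] {p : ℕ} (S : Setting G p)

/-- a nonnegative real fixed by a nontrivial power map is `0` or `1` -/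
theorem eq_zero_or_one_of_pow_eq (a : ℝ) (ha : 0 ≤ a) (N : ℕ) (hN : 2 ≤ N) (h : a = a ^ N) :
    a = 0 ∨ a = 1 := by
  by_cases hz : a = 0
  · exact Or.inl hz
  · right
    have h1 : a * a ^ (N - 1) = a * 1 := by
      rw [← pow_succ', Nat.sub_add_cancel (by omega), mul_one]
      exact h.symm
    have h2 : a ^ (N - 1) = 1 := mul_left_cancel₀ hz h1
    exact (pow_eq_one_iff_of_nonneg ha (by omega)).1 h2

theorem val_odd
    (hR : ∀ g : G, ¬ p ∣ orderOf g → S.ζ g ^ 2 - S.ζ (g ^ 2) = ((p : ℂ) - 3) * S.ζ (g ^ S.k))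
    (g : G) (hodd : Odd (orderOf g)) (hreg : ¬ p ∣ orderOf g) (hnc : g ∉ Subgroup.center G) :
    S.ζ g = 0 := by
  have h5 := S.h5
  have hpow : ∀ m : ℕ, S.ζ (g ^ m) ^ 2 = ((p : ℂ) - 2) * S.ζ ((g ^ m) ^ 2) := by
    intro m
    have ho : orderOf (g ^ m) ∣ orderOf g := orderOf_pow_dvd m
    have hodd' : Odd (orderOf (g ^ m)) := hodd.of_dvd_nat ho
    have hreg' : ¬ p ∣ orderOf (g ^ m) := fun h => hreg (h.trans ho)
    have h := hR (g ^ m) hreg'
    rw [S.hkodd _ hodd'] at h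
    linear_combination h
  have hc : (0 : ℝ) < (p : ℝ) - 2 := by
    have : (6 : ℝ) ≤ (p : ℝ) := by exact_mod_cast h5
    linarith
  have hnorm : ‖((p : ℂ) - 2)‖ = (p : ℝ) - 2 := by
    have : ((p : ℂ) - 2) = (((p : ℝ) - 2 : ℝ) : ℂ) := by push_cast; ring
    rw [this, Complex.norm_real, Real.norm_eq_abs, abs_of_pos hc]
  have hrec : ∀ j : ℕ, ‖S.ζ (g ^ (2 ^ (j + 1)))‖ / ((p : ℝ) - 2) =
      (‖S.ζ (g ^ (2 ^ j))‖ / ((p : ℝ) - 2)) ^ 2 := by
    intro j
    have h := hpow (2 ^ j)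
    have hn := congrArg norm h
    rw [norm_pow, norm_mul, hnorm] at hn
    have hg : (g ^ (2 ^ j)) ^ 2 = g ^ (2 ^ (j + 1)) := by rw [← pow_mul, pow_succ]
    rw [hg] at hn
    rw [div_pow, hn]
    field_simp
  have ha : ∀ j : ℕ, ‖S.ζ (g ^ (2 ^ j))‖ / ((p : ℝ) - 2) =
      (‖S.ζ g‖ / ((p : ℝ) - 2)) ^ (2 ^ j) := by
    intro j
    induction j with
    | zero => simp
    | succ j ih => rw [hrec, ih, ← pow_mul, pow_succ]
  obtain ⟨n, hn, hgn⟩ : ∃ n : ℕ, 0 < n ∧ g ^ (2 ^ n) = g := by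
    refine ⟨Nat.totient (orderOf g), Nat.totient_pos.2 (orderOf_pos g), ?_⟩
    have hcop : Nat.Coprime 2 (orderOf g) := Nat.coprime_two_left.2 hodd
    have h1 := Nat.ModEq.pow_totient hcop
    have h2 : g ^ (2 ^ Nat.totient (orderOf g)) = g ^ 1 := pow_eq_pow_iff_modEq.2 h1
    rw [h2, pow_one]
  have h0 := ha n
  rw [hgn] at h0
  have h2n : 2 ≤ 2 ^ n := by
    calc 2 = 2 ^ 1 := by norm_num
      _ ≤ 2 ^ n := Nat.pow_le_pow_right (by norm_num) hn
  rcases eq_zero_or_one_of_pow_eq _ (by positivity) (2 ^ n) h2n h0 with h | h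
  · have h' : ‖S.ζ g‖ = 0 := by
      rcases div_eq_zero_iff.1 h with h | h
      · exact h
      · exact absurd h hc.ne'
    exact norm_eq_zero.1 h'
  · exfalso
    have h' : ‖S.ζ g‖ = ‖S.ζ 1‖ := by
      rw [S.hdeg, hnorm]
      rw [div_eq_one_iff_eq hc.ne'] at h
      exact h
    exact hnc (Cfsg.Agent.Lib.Helper80GP.mem_center_of_norm_eq S.hζ S.hfaith h')

end Cfsg.Agent.Lib.Helper47.S4705
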